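import Groth.Agent.Pi1.H385.AbsK

/-!
# Existence of lifts of finite etale covers of non proper schemes
-/

set_option autoImplicit false
universe u

open CategoryTheory CategoryTheory.Limits AlgebraicGeometry

namespace Groth.Agent.Pi1.H385.AbsE

open Groth.Agent.Pi1.H385.FF Groth.Agent.Pi1.H385.GaloisDesc Groth.Agent.Pi1.H385.GeomPt
  Groth.Agent.Pi1.H385.AbsM

/-- Essential surjectivity of an equivalence in terms of maps. -/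
theorem exists_isPullback_of_essSurj {X₁ X₂ : Scheme.{u}} (x : X₂ ⟶ X₁)
    [(FEt.restrict x).EssSurj] {V : Scheme.{u}} (h : V ⟶ X₂) (hh : FEt.prop h) :
    ∃ (W : Scheme.{u}) (Wh : W ⟶ X₁) (j : V ⟶ W), FEt.prop Wh ∧ IsPullback j h Wh x := by
  let W := (FEt.restrict x).objPreimage (mk h hh)
  let e : (FEt.restrict x).obj W ≅ mk h hh := (FEt.restrict x).objObjPreimageIso (mk h hh)
  have e1 : e.inv.left ≫ e.hom.left = 𝟙 _ := congrArg (fun f => f.left) e.inv_hom_id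
  have e2 : e.hom.left ≫ e.inv.left = 𝟙 _ := congrArg (fun f => f.left) e.hom_inv_id
  have e3 : e.inv.left ≫ ((FEt.restrict x).obj W).hom = h := Pi1A.FEtGlue.hom_w e.inv
  let i : V ≅ pullback W.hom x := ⟨e.inv.left, e.hom.left, e1, e2⟩
  have e4 : i.hom ≫ pullback.snd W.hom x = h := e3
  refine ⟨W.left, W.hom, i.hom ≫ pullback.fst W.hom x, W.prop, ?_⟩
  exact IsPullback.of_iso (IsPullback.of_hasPullback W.hom x) i.symm (Iso.refl _) (Iso.refl _)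
    (Iso.refl _) (by simp) (by simp [← e4]) (by simp) (by simp)

variable {T₁ T₂ U₁ U₂ U₁' U₂' X₁ X₂ : Scheme.{u}} {g : T₂ ⟶ T₁} {ϖ₁ : U₁' ⟶ U₁} {y : U₂ ⟶ U₁}
  {y' : U₂' ⟶ U₁'} {ϖ₂ : U₂' ⟶ U₂} (sqU : IsPullback y' ϖ₂ ϖ₁ y) {i₁ : U₁' ⟶ X₁}
  {q₁ : U₁ ⟶ T₁} {q₂ : U₂ ⟶ T₂} (sqT : IsPullback y q₂ q₁ g) {i₂ : U₂' ⟶ X₂} {x : X₂ ⟶ X₁}
  (w : i₂ ≫ x = y' ≫ i₁) [(FEt.restrict x).IsEquivalence] (hi₁ : FF i₁) (hi₂ : FF i₂)
  [IsIntegralHom ϖ₁] [Surjective ϖ₁]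
  (hg : ∀ (Y : Scheme.{u}) (f : Y ⟶ T₁) [IsProper f] [Nonempty Y], Nonempty ↥(pullback f g))
  {Γ : Type} [Group Γ] [Finite Γ] (A : Act ϖ₁ Γ) (t : Γ → (X₁ ⟶ X₁))
  (ht : ∀ γ, A.r γ ≫ i₁ = i₁ ≫ t γ)
  (hF : ∀ γ, γ ≠ 1 → IsProper (equalizer.ι (A.r γ) (𝟙 _) ≫ ϖ₁ ≫ q₁))

include sqU sqT w hi₁ hi₂ hg ht hF

/-- Essential surjectivity. -/
theorem exists_cover {V₂ : Scheme.{u}} (V₂h : V₂ ⟶ U₂) (hV₂ : FEt.prop V₂h)
    (hVe₂ : Ext ϖ₂ i₂ V₂h) :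
    ∃ (V₁ : Scheme.{u}) (Vh : V₁ ⟶ U₁) (v : V₂ ⟶ V₁), FEt.prop Vh ∧ Ext ϖ₁ i₁ Vh ∧
      IsPullback v V₂h Vh y := by
  have hy : FF (y' ≫ i₁) := by
    rw [← w]
    exact hi₂.comp (FF.of_isEquivalence x)
  obtain ⟨Vb₂, Vb₂h, j₂, hVb₂, sqj₂⟩ := hVe₂
  obtain ⟨Vb, Vbh, xb, hVb, sqxb⟩ := exists_isPullback_of_essSurj x Vb₂h hVb₂
  -- `V'`
  have sqj := IsPullback.of_hasPullback Vbh i₁
  have sqV₂' := IsPullback.of_hasPullback V₂h ϖ₂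
  obtain ⟨V', h', jV, hjV⟩ : ∃ (V' : Scheme.{u}) (h' : V' ⟶ U₁') (jV : V' ⟶ Vb),
    IsPullback jV h' Vbh i₁ := ⟨_, _, _, sqj⟩
  obtain ⟨V₂', p₂, h₂', hsq₂, sqj₂'⟩ : ∃ (V₂' : Scheme.{u}) (p₂ : V₂' ⟶ V₂) (h₂' : V₂' ⟶ U₂'),
    IsPullback p₂ h₂' V₂h ϖ₂ ∧ ∃ j : V₂' ⟶ Vb₂, IsPullback j h₂' Vb₂h i₂ :=
    ⟨_, _, _, sqV₂', j₂, sqj₂⟩
  clear sqj₂ sqV₂' sqj j₂
  obtain ⟨j₂, sqj₂⟩ := sqj₂'
  have i1 : FEt.prop h' := MorphismProperty.of_isPullback hjV hVb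
  have hfin : IsFinite h' := i1.1
  have hEt : Etale h' := i1.2
  obtain ⟨v', hv'1⟩ : ∃ v' : V₂' ⟶ V', v' ≫ jV = j₂ ≫ xb ∧ v' ≫ h' = h₂' ≫ y' := by
    have e : (j₂ ≫ xb) ≫ Vbh = (h₂' ≫ y') ≫ i₁ := by
      rw [Category.assoc, sqxb.w, sqj₂.w_assoc, w, Category.assoc]
    exact ⟨hjV.lift _ _ e, hjV.lift_fst _ _ e, hjV.lift_snd _ _ e⟩
  obtain ⟨hv'1, hv'2⟩ := hv'1
  have hsq : IsPullback v' h₂' h' y' := by
    have h1 : IsPullback (v' ≫ jV) h₂' Vbh (y' ≫ i₁) := by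
      rw [hv'1, ← w]
      exact sqj₂.paste_horiz sqxb
    exact IsPullback.of_right h1 hv'2 hjV
  -- the action on `V₂'`
  let A₂ := A.baseChange sqU
  have hA₂ : ∀ γ, A₂.r γ ≫ y' = y' ≫ A.r γ := fun γ => A.baseChange_r_fst sqU γ
  let γV₂ : Γ → (V₂' ⟶ V₂') := fun γ =>
    hsq₂.lift p₂ (h₂' ≫ A₂.r γ) (by rw [Category.assoc, A₂.r_w, hsq₂.w])
  have hγ1 : ∀ γ, γV₂ γ ≫ p₂ = p₂ := fun γ => hsq₂.lift_fst _ _ _
  have hγ2 : ∀ γ, γV₂ γ ≫ h₂' = h₂' ≫ A₂.r γ := fun γ => hsq₂.lift_snd _ _ _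
  have hγone : γV₂ 1 = 𝟙 _ := by
    apply hsq₂.hom_ext
    · rw [hγ1, Category.id_comp]
    · rw [hγ2, A₂.r_one, Category.comp_id, Category.id_comp]
  have hγmul : ∀ γ δ, γV₂ (γ * δ) = γV₂ γ ≫ γV₂ δ := by
    intro γ δ
    apply hsq₂.hom_ext
    · rw [hγ1, Category.assoc, hγ1, hγ1]
    · rw [hγ2, Category.assoc, hγ2, reassoc_of% hγ2, A₂.r_mul]
  -- the action on `V'`
  have hex : ∀ γ, ∃! a : V' ⟶ V', a ≫ h' = h' ≫ A.r γ ∧ v' ≫ a = γV₂ γ ≫ v' := fun γ =>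
    existsUnique_lift hi₁ hy hsq hjV hVb hjV hVb (ht γ) (γV₂ γ ≫ v') (by
      rw [Category.assoc, hv'2, reassoc_of% hγ2, hA₂])
  choose a ha hauniq using fun γ => (hex γ)
  have ha1 : ∀ γ, a γ ≫ h' = h' ≫ A.r γ := fun γ => (ha γ).1
  have ha2 : ∀ γ, v' ≫ a γ = γV₂ γ ≫ v' := fun γ => (ha γ).2
  have a_one : a 1 = 𝟙 _ := by
    refine ((hauniq 1) (𝟙 _) ⟨?_, ?_⟩).symm
    · rw [A.r_one, Category.comp_id, Category.id_comp]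
    · rw [hγone, Category.comp_id, Category.id_comp]
  have a_mul : ∀ γ δ, a (γ * δ) = a γ ≫ a δ := by
    intro γ δ
    refine ((hauniq (γ * δ)) (a γ ≫ a δ) ⟨?_, ?_⟩).symm
    · rw [Category.assoc, ha1, reassoc_of% ha1, A.r_mul]
    · rw [reassoc_of% ha2, ha2, hγmul, Category.assoc]
  have hK : ∀ (K : Type u) [Field K] [IsAlgClosed K] (z : Spec (CommRingCat.of K) ⟶ V') (γ : Γ),
      z ≫ h' ≫ A.r γ = z ≫ h' → z ≫ a γ = z := by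
    intro K _ _ z γ hz
    by_cases hγ : γ = 1
    · rw [hγ, a_one, Category.comp_id]
    · refine AbsK.fixed (ϖ₁ ≫ q₁) hg h' i1 (A.r γ) (a γ) (ha1 γ) (hF γ hγ) ?_ K z hz
      intro L _ _ z s hs hz
      let u₂ : Spec (CommRingCat.of L) ⟶ U₂' := sqU.lift (z ≫ h')
        (sqT.lift (z ≫ h' ≫ ϖ₁) s (by rw [← hs]; simp only [Category.assoc])) (by
          rw [sqT.lift_fst, Category.assoc])
      have hu1 : u₂ ≫ y' = z ≫ h' := sqU.lift_fst _ _ _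
      have hu2 : u₂ ≫ A₂.r γ = u₂ := by
        apply sqU.hom_ext
        · rw [Category.assoc, hA₂, reassoc_of% hu1, hz, hu1]
        · rw [Category.assoc, A₂.r_w]
      let v₂ : Spec (CommRingCat.of L) ⟶ V₂' := hsq.lift z u₂ hu1.symm
      have hv1 : v₂ ≫ v' = z := hsq.lift_fst _ _ _
      have hv2 : v₂ ≫ h₂' = u₂ := hsq.lift_snd _ _ _
      have hv3 : v₂ ≫ γV₂ γ = v₂ := by
        apply hsq₂.hom_ext
        · rw [Category.assoc, hγ1]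
        · rw [Category.assoc, hγ2, reassoc_of% hv2, hu2, hv2]
      rw [← hv1, Category.assoc, ha2, reassoc_of% hv3]
  obtain ⟨V₁, Vh, p, hVh, sqp, hap⟩ := exists_descent A h' a ha1 a_mul hK a_one
  have : Etale Vh := hVh.2
  have hϖ₂ : Surjective ϖ₂ := MorphismProperty.of_isPullback sqU inferInstance
  have hϖ₂i : IsIntegralHom ϖ₂ := MorphismProperty.of_isPullback sqU inferInstance
  obtain ⟨v, hv1, hv2⟩ := exists_desc_map A₂ hsq₂ Vh (V₂h ≫ y) (v' ≫ p) (by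
    rw [Category.assoc, sqp.w, reassoc_of% hv'2, sqU.w, hsq₂.w_assoc]) (fun γ => by
      change γV₂ γ ≫ v' ≫ p = v' ≫ p
      rw [← reassoc_of% ha2, hap])
  refine ⟨V₁, Vh, v, hVh, Ext.of_isPullback sqp hVb hjV, ?_⟩
  -- the comparison map is an isomorphism
  let k : V₂ ⟶ pullback Vh y := pullback.lift v V₂h hv1
  have hk1 : k ≫ pullback.fst _ _ = v := pullback.lift_fst _ _ _
  have hk2 : k ≫ pullback.snd _ _ = V₂h := pullback.lift_snd _ _ _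
  have hk3 : Etale k := by
    have : Etale (k ≫ pullback.snd Vh y) := by rw [hk2]; exact hV₂.2
    exact Etale.of_comp k (pullback.snd Vh y)
  have hb : IsPullback (p₂ ≫ k) h₂' (pullback.snd Vh y) ϖ₂ := by
    have h1 : IsPullback ((p₂ ≫ k) ≫ pullback.fst Vh y) h₂' Vh (ϖ₂ ≫ y) := by
      rw [Category.assoc, hk1, hv2, ← sqU.w]
      exact hsq.paste_horiz sqp
    refine IsPullback.of_right h1 ?_ (IsPullback.of_hasPullback Vh y)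
    rw [Category.assoc, hk2, hsq₂.w]
  have htop : IsPullback p₂ (𝟙 V₂') k (p₂ ≫ k) := by
    refine IsPullback.of_bot ?_ (by rw [Category.id_comp]) hb
    rw [Category.id_comp, hk2]
    exact hsq₂
  have hbs : Surjective (p₂ ≫ k) := MorphismProperty.of_isPullback hb.flip hϖ₂
  have hkiso : IsIso k := IsoDesc.isIso_of_pullback k htop
  exact IsPullback.of_iso (IsPullback.of_hasPullback Vh y) (asIso k).symm (Iso.refl _)
    (Iso.refl _) (Iso.refl _) (by simp [hk1]) (by simp [hk2]) (by simp) (by simp)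

end Groth.Agent.Pi1.H385.AbsE
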