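import Groth.Agent.Pi1.H385.AbsM

/-!
# Triviality of the action on fibres over fixed points, via properness of the fixed locus
-/

set_option autoImplicit false
universe u

open CategoryTheory CategoryTheory.Limits AlgebraicGeometry

namespace Groth.Agent.Pi1.H385.AbsK

open Groth.Agent.Pi1.H385.FF Groth.Agent.Pi1.H385.GaloisDesc Groth.Agent.Pi1.H385.GeomPt

/-- Let `V' ⟶ U₁'` be finite etale, `r : U₁' ⟶ U₁'` and `a : V' ⟶ V'` over `r`. If the fixed locus
of `r` is proper over `T₁`, nonempty proper `T₁`-schemes stay nonempty over `T₂`, and `a` fixes the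
points of `V' ×_{T₁} T₂` over the fixed points of `r`, then `a` fixes all points over fixed
points of `r`. -/
theorem fixed {T₁ T₂ U₁' V' : Scheme.{u}} {g : T₂ ⟶ T₁} (q' : U₁' ⟶ T₁)
    (hg : ∀ (Y : Scheme.{u}) (f : Y ⟶ T₁) [IsProper f] [Nonempty Y],
      Nonempty ↥(pullback f g))
    (h' : V' ⟶ U₁') (hh' : FEt.prop h') (r : U₁' ⟶ U₁') (a : V' ⟶ V') (ha : a ≫ h' = h' ≫ r)
    (hF : IsProper (equalizer.ι r (𝟙 _) ≫ q'))
    (h₂ : ∀ (K : Type u) [Field K] [IsAlgClosed K] (x : Spec (CommRingCat.of K) ⟶ V')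
      (s : Spec (CommRingCat.of K) ⟶ T₂), x ≫ h' ≫ q' = s ≫ g → x ≫ h' ≫ r = x ≫ h' → x ≫ a = x)
    (K : Type u) [Field K] [IsAlgClosed K] (x : Spec (CommRingCat.of K) ⟶ V')
    (hx : x ≫ h' ≫ r = x ≫ h') : x ≫ a = x := by
  have i1 : IsFinite h' := hh'.1
  have i2 : Etale h' := hh'.2
  let ι := equalizer.ι r (𝟙 U₁')
  have hι : ι ≫ r = ι := by
    have := equalizer.condition r (𝟙 U₁')
    simpa using this
  -- the restriction of `V'` to the fixed locus
  let pr := pullback.fst h' ι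
  have hpr : pr ≫ h' = pullback.snd h' ι ≫ ι := pullback.condition
  have hpra : (pr ≫ a) ≫ h' = pr ≫ h' := by
    rw [Category.assoc, ha, reassoc_of% hpr, hι, hpr]
  let l := pullback.lift (pr ≫ a) pr hpra
  let D := pullback.fst l (pullback.diagonal h')
  have hD1 : IsOpenImmersion D := inferInstance
  have hD2 : IsClosedImmersion D := inferInstance
  have hD3 : D ≫ pr ≫ a = D ≫ pr := by
    have e : D ≫ l = pullback.snd l (pullback.diagonal h') ≫ pullback.diagonal h' :=
      pullback.condition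
    have e1 := congrArg (· ≫ pullback.fst h' h') e
    have e2 := congrArg (· ≫ pullback.snd h' h') e
    simp only [l, Category.assoc, pullback.lift_fst, pullback.lift_snd, pullback.diagonal_fst,
      pullback.diagonal_snd, Category.comp_id] at e1 e2
    rw [e1, e2]
  -- points equalizing factor through `D`
  have hD4 : ∀ {T : Scheme.{u}} (y : T ⟶ pullback h' ι), y ≫ pr ≫ a = y ≫ pr →
      ∃ y' : T ⟶ pullback l (pullback.diagonal h'), y' ≫ D = y := by
    intro T y hy
    refine ⟨pullback.lift y (y ≫ pr) ?_, pullback.lift_fst _ _ _⟩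
    apply pullback.hom_ext
    · simp only [l, Category.assoc, pullback.lift_fst, pullback.diagonal_fst, Category.comp_id]
      exact hy
    · simp only [l, Category.assoc, pullback.lift_snd, pullback.diagonal_snd, Category.comp_id]
  have hcl : IsClosed (Set.range D) := D.isClosedEmbedding.isClosed_range
  have hop : IsOpen (Set.range D) := D.isOpenEmbedding.isOpen_range
  let Z : (pullback h' ι).Opens := ⟨(Set.range D)ᶜ, hcl.isOpen_compl⟩
  have hZcl : IsClosedImmersion Z.ι := by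
    refine IsClosedImmersion.of_isPreimmersion _ ?_
    rw [Scheme.Opens.range_ι]
    exact hop.isClosed_compl
  have hproper : IsProper (Z.ι ≫ pullback.snd h' ι ≫ ι ≫ q') := inferInstance
  by_contra hne
  have hxι : (x ≫ h') ≫ r = (x ≫ h') ≫ 𝟙 U₁' := by rw [Category.assoc, hx, Category.comp_id]
  let x' : Spec (CommRingCat.of K) ⟶ pullback h' ι := pullback.lift x
    (equalizer.lift (x ≫ h') hxι) (by rw [equalizer.lift_ι])
  have hx' : x' ≫ pr = x := pullback.lift_fst _ _ _
  obtain ⟨t⟩ : Nonempty ↥(Spec (CommRingCat.of K)) := inferInstance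
  have hmem : x' t ∈ Z := by
    rintro hmem
    have hr : Set.range x' ⊆ Set.range D := by
      rintro _ ⟨t', rfl⟩
      rw [Subsingleton.elim t' t]
      exact hmem
    apply hne
    rw [← hx', ← IsOpenImmersion.lift_fac D x' hr, Category.assoc, Category.assoc, Category.assoc,
      hD3]
  have hZne : Nonempty Z := ⟨⟨x' t, hmem⟩⟩
  obtain ⟨w⟩ := hg Z (Z.ι ≫ pullback.snd h' ι ≫ ι ≫ q')
  obtain ⟨L, _, _, z, -⟩ := exists_geomPoint w
  obtain ⟨y, hy⟩ : ∃ y : Spec (CommRingCat.of L) ⟶ pullback h' ι,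
    y = z ≫ pullback.fst (Z.ι ≫ pullback.snd h' ι ≫ ι ≫ q') g ≫ Z.ι := ⟨_, rfl⟩
  have hy1 : (y ≫ pr) ≫ h' ≫ r = (y ≫ pr) ≫ h' := by
    rw [Category.assoc, reassoc_of% hpr, hι, Category.assoc, hpr]
  have hy2 : (y ≫ pr) ≫ h' ≫ q' = (z ≫ pullback.snd _ _) ≫ g := by
    rw [Category.assoc, reassoc_of% hpr, Category.assoc z, ← pullback.condition, hy]
    simp only [Category.assoc]
  have hy3 := h₂ L (y ≫ pr) (z ≫ pullback.snd _ _) hy2 hy1
  obtain ⟨y', hy'⟩ := hD4 y (by rw [← Category.assoc, hy3])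
  obtain ⟨s⟩ : Nonempty ↥(Spec (CommRingCat.of L)) := inferInstance
  have hyZ : y s ∈ Z := by
    rw [hy, ← Category.assoc, Scheme.Hom.comp_apply]
    exact Subtype.property _
  exact hyZ ⟨y' s, by rw [← Scheme.Hom.comp_apply, hy']⟩

end Groth.Agent.Pi1.H385.AbsK
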