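import Groth.Agent.Pi1.H385.GeomPt
import Groth.Agent.S0783
import Groth.Agent.Pi1B.FinDesc
import Groth.Agent.Sga1.SigmaFinite
import Groth.Agent.Pi1.H385.FF

/-!
# Descent of finite etale covers along a finite group acting transitively on geometric fibres

`ϖ : U' ⟶ U` integral and surjective, `Γ` a finite group acting on `U'` over `U`, transitively on
the geometric fibres. A finite etale cover of `U'` with a compatible action of `Γ` such that the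
stabiliser of every geometric point of `U'` acts trivially on the fibre descends to `U`.
-/

set_option autoImplicit false
universe u

open CategoryTheory CategoryTheory.Limits AlgebraicGeometry SGA1 _root_.Desc

namespace Groth.Agent.Pi1.H385.GaloisDesc

open Groth.Agent.Pi1.H385.GeomPt

/-- A right action of a group on `U'` over `U`, transitive on geometric fibres. -/
structure Act {U U' : Scheme.{u}} (ϖ : U' ⟶ U) (Γ : Type) [Group Γ] where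
  r : Γ → (U' ⟶ U')
  r_one : r 1 = 𝟙 _
  r_mul : ∀ γ δ, r (γ * δ) = r γ ≫ r δ
  r_w : ∀ γ, r γ ≫ ϖ = ϖ
  trans : ∀ (K : Type u) [Field K] [IsAlgClosed K] (a b : Spec (CommRingCat.of K) ⟶ U'),
    a ≫ ϖ = b ≫ ϖ → ∃ γ, a ≫ r γ = b

variable {U U' : Scheme.{u}} {ϖ : U' ⟶ U} {Γ : Type} [Group Γ]

/-- The action on a base change. -/
noncomputable def Act.baseChange (A : Act ϖ Γ) {U₂ U₂' : Scheme.{u}} {ϖ₂ : U₂' ⟶ U₂} {y' : U₂' ⟶ U'}
    {y : U₂ ⟶ U} (sq : IsPullback y' ϖ₂ ϖ y) : Act ϖ₂ Γ where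
  r γ := sq.lift (y' ≫ A.r γ) ϖ₂ (by rw [Category.assoc, A.r_w, sq.w])
  r_one := sq.hom_ext (by rw [sq.lift_fst, A.r_one, Category.comp_id, Category.id_comp])
    (by rw [sq.lift_snd, Category.id_comp])
  r_mul γ δ := sq.hom_ext
    (by rw [sq.lift_fst, A.r_mul, Category.assoc, sq.lift_fst, sq.lift_fst_assoc, Category.assoc])
    (by rw [sq.lift_snd, Category.assoc, sq.lift_snd, sq.lift_snd])
  r_w γ := sq.lift_snd _ _ _
  trans K _ _ a b h := by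
    obtain ⟨γ, hγ⟩ := A.trans K (a ≫ y') (b ≫ y') (by
      rw [Category.assoc, Category.assoc, sq.w, reassoc_of% h])
    refine ⟨γ, sq.hom_ext ?_ ?_⟩
    · rw [Category.assoc, sq.lift_fst, ← Category.assoc, hγ]
    · rw [Category.assoc, sq.lift_snd, h]

lemma Act.baseChange_r_fst (A : Act ϖ Γ) {U₂ U₂' : Scheme.{u}} {ϖ₂ : U₂' ⟶ U₂} {y' : U₂' ⟶ U'}
    {y : U₂ ⟶ U} (sq : IsPullback y' ϖ₂ ϖ y) (γ : Γ) :
    (A.baseChange sq).r γ ≫ y' = y' ≫ A.r γ := sq.lift_fst _ _ _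

lemma Act.baseChange_r_snd (A : Act ϖ Γ) {U₂ U₂' : Scheme.{u}} {ϖ₂ : U₂' ⟶ U₂} {y' : U₂' ⟶ U'}
    {y : U₂ ⟶ U} (sq : IsPullback y' ϖ₂ ϖ y) (γ : Γ) :
    (A.baseChange sq).r γ ≫ ϖ₂ = ϖ₂ := sq.lift_snd _ _ _

/-- Invariant maps to etale schemes descend. -/
theorem exists_desc_map [IsIntegralHom ϖ] [Surjective ϖ] (A : Act ϖ Γ) {V V' W S : Scheme.{u}}
    {v : V' ⟶ V} {h' : V' ⟶ U'} {h : V ⟶ U} (sq : IsPullback v h' h ϖ) (w : W ⟶ S) [Etale w]
    (m : V ⟶ S) (c : V' ⟶ W) (hc : c ≫ w = v ≫ m)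
    (hinv : ∀ γ, sq.lift v (h' ≫ A.r γ) (by rw [Category.assoc, A.r_w, sq.w]) ≫ c = c) :
    ∃ c₀ : V ⟶ W, c₀ ≫ w = m ∧ v ≫ c₀ = c := by
  have hi : IsIntegralHom v := MorphismProperty.of_isPullback sq.flip inferInstance
  have hs : Surjective v := MorphismProperty.of_isPullback sq.flip inferInstance
  refine exists_hom v (univSubmersive_of_universallyClosed v) m w c hc fun K _ _ x₀ x₁ e => ?_
  obtain ⟨γ, hγ⟩ := A.trans K (x₀ ≫ h') (x₁ ≫ h') (by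
    rw [Category.assoc, Category.assoc, ← sq.w, reassoc_of% e])
  have hx : x₁ = x₀ ≫ sq.lift v (h' ≫ A.r γ) (by rw [Category.assoc, A.r_w, sq.w]) := by
    apply sq.hom_ext
    · rw [Category.assoc, sq.lift_fst, e]
    · rw [Category.assoc, sq.lift_snd, ← Category.assoc, hγ]
  rw [hx, Category.assoc, hinv]

theorem desc_map_unique [Surjective ϖ] {V V' W S : Scheme.{u}}
    {v : V' ⟶ V} {h' : V' ⟶ U'} {h : V ⟶ U} (sq : IsPullback v h' h ϖ) (w : W ⟶ S) [Etale w]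
    (c₀ c₁ : V ⟶ W) (hc : c₀ ≫ w = c₁ ≫ w) (hv : v ≫ c₀ = v ≫ c₁) : c₀ = c₁ := by
  have hs : Surjective v := MorphismProperty.of_isPullback sq.flip inferInstance
  exact Sga1.EtaleSection.eq_of_surjective w _ _ hc v hv

/-- A geometric point of a coproduct factors through one of the summands. -/
theorem exists_factor_sigma {ι : Type u} (X : ι → Scheme.{u}) {K : Type u} [Field K]
    (x : Spec (CommRingCat.of K) ⟶ ∐ X) : ∃ (i : ι) (x' : Spec (CommRingCat.of K) ⟶ X i),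
      x = x' ≫ Sigma.ι X i := by
  obtain ⟨z⟩ : Nonempty ↥(Spec (CommRingCat.of K)) := inferInstance
  obtain ⟨i, y, hy⟩ : ∃ (i : ι) (y : X i), (Sigma.ι X i) y = x z := (sigmaOpenCover X).exists_eq (x z)
  refine ⟨i, IsOpenImmersion.lift (Sigma.ι X i) x ?_, (IsOpenImmersion.lift_fac _ _ _).symm⟩
  rintro _ ⟨z', rfl⟩
  rw [Subsingleton.elim z' z, ← hy]
  exact ⟨y, rfl⟩

section Main

section Graph

variable (A : Act ϖ Γ) {V' : Scheme.{u}} (h : V' ⟶ U')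

/-- The graph of `γ`. -/
noncomputable def graph (γ : Γ) : V' ⟶ pullback (h ≫ ϖ) ϖ :=
  pullback.lift (𝟙 V') (h ≫ A.r γ) (by rw [Category.assoc, A.r_w, Category.id_comp])

@[reassoc (attr := simp)]
lemma graph_fst (γ : Γ) : graph A h γ ≫ pullback.fst _ _ = 𝟙 _ := pullback.lift_fst _ _ _

@[reassoc (attr := simp)]
lemma graph_snd (γ : Γ) : graph A h γ ≫ pullback.snd _ _ = h ≫ A.r γ := pullback.lift_snd _ _ _

/-- The gluing map on points. -/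
theorem gluing_graph (a : Γ → (V' ⟶ V')) {c : pullback (h ≫ ϖ) ϖ ⟶ V'}
    (hc2 : ∀ γ, graph A h γ ≫ c = a γ)
    {T : Scheme.{u}} (v : T ⟶ V') (γ : Γ) (x₁ : T ⟶ U') (hx : v ≫ h ≫ A.r γ = x₁)
    (hh : v ≫ h ≫ ϖ = x₁ ≫ ϖ) : pullback.lift v x₁ hh ≫ c = v ≫ a γ := by
  rw [← hc2 γ, ← Category.assoc]
  congr 1
  apply pullback.hom_ext
  · rw [pullback.lift_fst, Category.assoc, graph_fst, Category.comp_id]
  · rw [pullback.lift_snd, Category.assoc, graph_snd, hx]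

omit [Group Γ] in
theorem comp_lift {T T' : Scheme.{u}} (g : T' ⟶ T) (v : T ⟶ V') (x₁ : T ⟶ U')
    (hh : v ≫ h ≫ ϖ = x₁ ≫ ϖ) (hh' : (g ≫ v) ≫ h ≫ ϖ = (g ≫ x₁) ≫ ϖ) :
    g ≫ pullback.lift v x₁ hh = pullback.lift (g ≫ v) (g ≫ x₁) hh' := by
  apply pullback.hom_ext
  · rw [Category.assoc, pullback.lift_fst, pullback.lift_fst]
  · rw [Category.assoc, pullback.lift_snd, pullback.lift_snd]

theorem gluing_self (a : Γ → (V' ⟶ V')) (a_one : a 1 = 𝟙 _) {c : pullback (h ≫ ϖ) ϖ ⟶ V'}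
    (hc2 : ∀ γ, graph A h γ ≫ c = a γ)
    {T : Scheme.{u}} (v : T ⟶ V') (x₁ : T ⟶ U') (hx : v ≫ h = x₁)
    (hh : v ≫ h ≫ ϖ = x₁ ≫ ϖ) : pullback.lift v x₁ hh ≫ c = v := by
  rw [gluing_graph A h a hc2 v 1 x₁ (by rw [A.r_one, Category.comp_id, hx]) hh, a_one,
    Category.comp_id]

theorem gluing_comp [Etale h] (a : Γ → (V' ⟶ V')) (a_mul : ∀ γ δ, a (γ * δ) = a γ ≫ a δ)
    {c : pullback (h ≫ ϖ) ϖ ⟶ V'} (hc1 : c ≫ h = pullback.snd _ _)
    (hc2 : ∀ γ, graph A h γ ≫ c = a γ)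
    {T : Scheme.{u}} (v : T ⟶ V') (x₁ x₂ : T ⟶ U') (hh : v ≫ h ≫ ϖ = x₁ ≫ ϖ)
    (hh2 : (pullback.lift v x₁ hh ≫ c) ≫ h ≫ ϖ = x₂ ≫ ϖ) (hh3 : v ≫ h ≫ ϖ = x₂ ≫ ϖ) :
    pullback.lift (pullback.lift v x₁ hh ≫ c) x₂ hh2 ≫ c = pullback.lift v x₂ hh3 ≫ c := by
  refine eq_of_geomPoints h _ _ ?_ fun K _ _ x => ?_
  · rw [Category.assoc, Category.assoc, hc1, pullback.lift_snd, pullback.lift_snd]
  · obtain ⟨γ, hγ⟩ := A.trans K (x ≫ v ≫ h) (x ≫ x₁) (by simp [hh])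
    obtain ⟨δ, hδ⟩ := A.trans K (x ≫ x₁) (x ≫ x₂) (by simp [← hh, ← hh3])
    have e1 : (x ≫ pullback.lift v x₁ hh) ≫ c = (x ≫ v) ≫ a γ := by
      rw [comp_lift h x v x₁ hh (by simp [hh])]
      exact gluing_graph A h a hc2 _ _ _ (by simpa using hγ) _
    have e2 : (x ≫ pullback.lift v x₂ hh3) ≫ c = (x ≫ v) ≫ a (γ * δ) := by
      rw [comp_lift h x v x₂ hh3 (by simp [hh3])]
      refine gluing_graph A h a hc2 _ _ _ ?_ _
      rw [A.r_mul, ← hδ, ← hγ]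
      simp
    rw [← Category.assoc, ← Category.assoc, e2, comp_lift h x _ x₂ hh2 (by
      rw [Category.assoc, hh2, Category.assoc])]
    rw [gluing_graph A h a hc2 (x ≫ pullback.lift v x₁ hh ≫ c) δ (x ≫ x₂) ?_ _]
    · rw [← Category.assoc x, e1, Category.assoc, ← a_mul]
    · rw [← hδ, Category.assoc, Category.assoc, reassoc_of% hc1, pullback.lift_snd_assoc,
        Category.assoc]

/-- The gluing maps. -/
noncomputable def phi {c : pullback (h ≫ ϖ) ϖ ⟶ V'} (hc1 : c ≫ h = pullback.snd _ _)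
    {T : Scheme.{u}} (x₀ x₁ : T ⟶ U') (hx : x₀ ≫ ϖ = x₁ ≫ ϖ)
    (v : Lifts (Over.mk h) x₀) : Lifts (Over.mk h) x₁ :=
  ⟨pullback.lift (f := h ≫ ϖ) v.1 x₁ (by
    have e : v.1 ≫ h = x₀ := v.2
    rw [← Category.assoc, e, hx]) ≫ c, by
      change (_ ≫ c) ≫ h = x₁
      rw [Category.assoc, hc1, pullback.lift_snd]⟩

theorem phi_self (a : Γ → (V' ⟶ V')) (a_one : a 1 = 𝟙 _)
    {c : pullback (h ≫ ϖ) ϖ ⟶ V'} (hc1 : c ≫ h = pullback.snd _ _)
    (hc2 : ∀ γ, graph A h γ ≫ c = a γ)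
    {T : Scheme.{u}} (x : T ⟶ U') (hx : x ≫ ϖ = x ≫ ϖ) (v : Lifts (Over.mk h) x) :
    phi h hc1 x x hx v = v :=
  Subtype.ext (gluing_self A h a a_one hc2 _ _ v.2 _)

theorem phi_comp [Etale h] (a : Γ → (V' ⟶ V')) (a_mul : ∀ γ δ, a (γ * δ) = a γ ≫ a δ)
    {c : pullback (h ≫ ϖ) ϖ ⟶ V'} (hc1 : c ≫ h = pullback.snd _ _)
    (hc2 : ∀ γ, graph A h γ ≫ c = a γ)
    {T : Scheme.{u}} (x₀ x₁ x₂ : T ⟶ U') (h₀₁ : x₀ ≫ ϖ = x₁ ≫ ϖ) (h₁₂ : x₁ ≫ ϖ = x₂ ≫ ϖ)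
    (h₀₂ : x₀ ≫ ϖ = x₂ ≫ ϖ) (v : Lifts (Over.mk h) x₀) :
    phi h hc1 x₁ x₂ h₁₂ (phi h hc1 x₀ x₁ h₀₁ v) = phi h hc1 x₀ x₂ h₀₂ v := by
  have e : v.1 ≫ h = x₀ := v.2
  exact Subtype.ext (gluing_comp A h a a_mul hc1 hc2 _ _ _ _ _
    (by rw [← Category.assoc, e, h₀₂]))

/-- The descent datum attached to the action. -/
noncomputable def schDD [Etale h] (a : Γ → (V' ⟶ V')) (a_mul : ∀ γ δ, a (γ * δ) = a γ ≫ a δ)
    (a_one : a 1 = 𝟙 _) {c : pullback (h ≫ ϖ) ϖ ⟶ V'}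
    (hc1 : c ≫ h = pullback.snd _ _) (hc2 : ∀ γ, graph A h γ ≫ c = a γ) : SchDD ϖ where
  obj := Over.mk h
  φ T x₀ x₁ hx :=
    { toFun := phi h hc1 x₀ x₁ hx
      invFun := phi h hc1 x₁ x₀ hx.symm
      left_inv := fun v => (phi_comp A h a a_mul hc1 hc2 _ _ _ _ _ rfl v).trans
        (phi_self A h a a_one hc1 hc2 _ _ v)
      right_inv := fun v => (phi_comp A h a a_mul hc1 hc2 _ _ _ _ _ rfl v).trans
        (phi_self A h a a_one hc1 hc2 _ _ v) }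
  φ_natural T T' g x₀ x₁ hx hx' v v' hv := by
    change pullback.lift (f := h ≫ ϖ) v'.1 (g ≫ x₁) _ ≫ c =
      g ≫ pullback.lift (f := h ≫ ϖ) v.1 x₁ _ ≫ c
    refine Eq.trans ?_ (Category.assoc g _ c)
    congr 1
    apply pullback.hom_ext
    · rw [pullback.lift_fst, Category.assoc, pullback.lift_fst, hv]
    · rw [pullback.lift_snd, Category.assoc, pullback.lift_snd]
  φ_self T x v := phi_self A h a a_one hc1 hc2 x rfl v
  φ_comp T x₀ x₁ x₂ h₀₁ h₁₂ v :=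
    phi_comp A h a a_mul hc1 hc2 x₀ x₁ x₂ h₀₁ h₁₂ (h₀₁.trans h₁₂) v

end Graph

section

variable [Finite Γ] [IsIntegralHom ϖ] (A : Act ϖ Γ) {V' : Scheme.{u}} (h : V' ⟶ U')
  [Etale h] (a : Γ → (V' ⟶ V')) (ha : ∀ γ, a γ ≫ h = h ≫ A.r γ)
  (a_mul : ∀ γ δ, a (γ * δ) = a γ ≫ a δ)
  (hK : ∀ (K : Type u) [Field K] [IsAlgClosed K] (x : Spec (CommRingCat.of K) ⟶ V') (γ : Γ),
    x ≫ h ≫ A.r γ = x ≫ h → x ≫ a γ = x)

include ha a_mul hK

theorem exists_gluing : ∃ c : pullback (h ≫ ϖ) ϖ ⟶ V', c ≫ h = pullback.snd _ _ ∧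
    ∀ γ, graph A h γ ≫ c = a γ := by
  have hcl : ∀ γ, IsClosedImmersion (graph A h γ) := fun γ => by
    have : IsClosedImmersion (graph A h γ ≫ pullback.fst (h ≫ ϖ) ϖ) := by
      rw [graph_fst]; infer_instance
    exact IsClosedImmersion.of_comp (graph A h γ) (pullback.fst (h ≫ ϖ) ϖ)
  let q : (∐ fun _ : ULift.{u} Γ => V') ⟶ pullback (h ≫ ϖ) ϖ :=
    Sigma.desc fun γ : ULift.{u} Γ => graph A h γ.down
  have hq1 : UniversallyClosed q := by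
    have : ∀ γ : ULift.{u} Γ, UniversallyClosed (graph A h γ.down) := fun γ => by
      have := hcl γ.down
      infer_instance
    exact Sga1.SigmaFinite.universallyClosed_sigmaDesc (fun γ : ULift.{u} Γ => graph A h γ.down)
  have hq2 : Surjective q := by
    refine ⟨fun t => ?_⟩
    obtain ⟨K, _, _, x, hx⟩ := exists_geomPoint t
    obtain ⟨z⟩ : Nonempty ↥(Spec (CommRingCat.of K)) := inferInstance
    obtain ⟨γ, hγ⟩ := A.trans K (x ≫ pullback.fst _ _ ≫ h) (x ≫ pullback.snd _ _) (by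
      rw [Category.assoc, Category.assoc, Category.assoc, pullback.condition])
    have hx' : x = (x ≫ pullback.fst _ _) ≫ graph A h γ := by
      apply pullback.hom_ext
      · rw [Category.assoc, graph_fst, Category.comp_id]
      · rw [Category.assoc, graph_snd, ← hγ]
        simp only [Category.assoc]
    refine ⟨(Sigma.ι (fun _ : ULift.{u} Γ => V') (ULift.up γ)) ((x ≫ pullback.fst _ _) z), ?_⟩
    rw [← Scheme.Hom.comp_apply, Sigma.ι_desc, ← Scheme.Hom.comp_apply, ← hx', hx]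
  obtain ⟨c, hc1, hc2⟩ := exists_hom q (univSubmersive_of_universallyClosed q)
    (pullback.snd _ _) h (Sigma.desc fun γ : ULift.{u} Γ => a γ.down) (by
      refine Sigma.hom_ext _ _ fun γ => ?_
      rw [Sigma.ι_desc_assoc, Sigma.ι_desc_assoc, graph_snd, ha]) (by
      intro K _ _ x₀ x₁ e
      obtain ⟨γ, y₀, rfl⟩ := exists_factor_sigma _ x₀
      obtain ⟨δ, y₁, rfl⟩ := exists_factor_sigma _ x₁
      simp only [Category.assoc, q, Sigma.ι_desc] at e ⊢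
      have e1 : y₀ = y₁ := by
        have := congrArg (· ≫ pullback.fst _ _) e
        simpa using this
      subst e1
      have e2 : y₀ ≫ h ≫ A.r γ.down = y₀ ≫ h ≫ A.r δ.down := by
        have := congrArg (· ≫ pullback.snd _ _) e
        simpa using this
      have e3 : y₀ ≫ a (γ.down * δ.down⁻¹) = y₀ := by
        apply hK
        have e4 : (y₀ ≫ h ≫ A.r γ.down) ≫ A.r δ.down⁻¹ = (y₀ ≫ h ≫ A.r δ.down) ≫ A.r δ.down⁻¹ := by
          rw [e2]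
        simp only [Category.assoc] at e4
        rw [A.r_mul, e4, ← A.r_mul, mul_inv_cancel, A.r_one, Category.comp_id]
      have e5 : a γ.down = a (γ.down * δ.down⁻¹) ≫ a δ.down := by
        rw [← a_mul, inv_mul_cancel_right]
      rw [e5, ← Category.assoc, e3])
  refine ⟨c, hc1, fun γ => ?_⟩
  have e := congrArg (Sigma.ι (fun _ : ULift.{u} Γ => V') (ULift.up γ) ≫ ·) hc2
  simpa [q] using e

/-- The descent datum attached to the action. -/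
theorem exists_schDD (a_one : a 1 = 𝟙 _) : ∃ (D : SchDD ϖ) (e : V' ⟶ D.obj.left) (_ : IsIso e)
    (he : e ≫ D.obj.hom = h), ∀ (γ : Γ) (hγ : h ≫ ϖ = (h ≫ A.r γ) ≫ ϖ),
      (D.φ h (h ≫ A.r γ) hγ ⟨e, he⟩).1 = a γ ≫ e := by
  obtain ⟨c, hc1, hc2⟩ := exists_gluing A h a ha a_mul hK
  have hiso : IsIso (𝟙 V') := inferInstance
  let D := schDD A h a a_mul a_one hc1 hc2
  let e : V' ⟶ D.obj.left := by exact 𝟙 V'
  refine ⟨D, e, hiso, Category.id_comp h, ?_⟩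
  intro γ hγ
  change pullback.lift (f := h ≫ ϖ) (𝟙 V') (h ≫ A.r γ) _ ≫ c = a γ ≫ 𝟙 V'
  rw [Category.comp_id]
  exact hc2 γ

/-- Descent of a finite etale cover with a compatible action. -/
theorem exists_descent [Surjective ϖ] (a_one : a 1 = 𝟙 _) [IsFinite h] : ∃ (V : Scheme.{u}) (Vh : V ⟶ U) (v : V' ⟶ V),
    FEt.prop Vh ∧ IsPullback v h Vh ϖ ∧ ∀ γ, a γ ≫ v = v := by
  obtain ⟨D, e, _, he, hD⟩ := exists_schDD A h a ha a_mul hK a_one
  have hobj : D.obj.hom = inv e ≫ h := by rw [← he, IsIso.inv_hom_id_assoc]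
  have i1 : IsFinite D.obj.hom := by rw [hobj]; infer_instance
  have i2 : Etale D.obj.hom := by rw [hobj]; infer_instance
  obtain ⟨V, h1, h2, h3, ⟨i⟩⟩ := Groth.Agent.S0783.result ϖ D
  -- the isomorphism of schemes
  let j : D.obj ≅ Over.mk (pullback.fst ϖ V.hom) :=
    { hom := i.inv.hom
      inv := i.hom.hom
      hom_inv_id := congrArg SchDD.Hom.hom i.inv_hom_id
      inv_hom_id := congrArg SchDD.Hom.hom i.hom_inv_id }
  let θ : D.obj.left ≅ pullback ϖ V.hom := (Over.forget _).mapIso j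
  have hθ : θ.hom ≫ pullback.fst ϖ V.hom = D.obj.hom := Over.w j.hom
  have hcomm : ∀ γ, a γ ≫ e ≫ θ.hom ≫ pullback.snd ϖ V.hom =
      e ≫ θ.hom ≫ pullback.snd ϖ V.hom := by
    intro γ
    have hγ : h ≫ ϖ = (h ≫ A.r γ) ≫ ϖ := by rw [Category.assoc, A.r_w]
    have hw : (e ≫ θ.hom) ≫ pullback.fst ϖ V.hom = h := by rw [Category.assoc, hθ, he]
    have h4 := i.inv.comm h (h ≫ A.r γ) hγ ⟨e, he⟩ ⟨e ≫ θ.hom, hw⟩ rfl
    rw [hD γ hγ] at h4
    have h5 : (a γ ≫ e) ≫ θ.hom = pullback.lift (h ≫ A.r γ)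
        ((e ≫ θ.hom) ≫ pullback.snd ϖ V.hom) (by
          rw [Category.assoc (f := e ≫ θ.hom), ← pullback.condition, ← Category.assoc, hw, hγ]) :=
      h4.symm
    rw [← Category.assoc, ← Category.assoc, h5, pullback.lift_snd, Category.assoc]
  have hpb : IsPullback (e ≫ θ.hom ≫ pullback.snd ϖ V.hom) h V.hom ϖ := by
    refine IsPullback.of_iso (IsPullback.of_hasPullback ϖ V.hom).flip (asIso e ≪≫ θ).symm
      (Iso.refl _) (Iso.refl _) (Iso.refl _) ?_ ?_ (by simp) (by simp)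
    · simp
    · simp [← he, ← hθ]
  refine ⟨V.left, V.hom, e ≫ θ.hom ≫ pullback.snd ϖ V.hom, ⟨?_, h3⟩, hpb, fun γ => hcomm γ⟩
  have i5 : IsFinite (pullback.snd V.hom ϖ) := by
    rw [← hpb.isoPullback_inv_snd]
    infer_instance
  exact Pi1B.FinDesc.isFinite_of_pullback ϖ V.hom

end

end Main

end Groth.Agent.Pi1.H385.GaloisDesc
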