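import Groth.Agent.Pi1.H385.FF
import Groth.Agent.Pi1.H385.IsoDesc
import Groth.Agent.Pi1.H385.GaloisDesc

/-!
# Invariance of finite etale covers of non proper schemes which extend after a finite
# modification with group action

See `existsUnique_map` (full faithfulness) and `exists_cover` (essential surjectivity).
-/

set_option autoImplicit false
universe u

open CategoryTheory CategoryTheory.Limits AlgebraicGeometry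

namespace Groth.Agent.Pi1.H385.AbsM

open Groth.Agent.Pi1.H385.FF Groth.Agent.Pi1.H385.GaloisDesc Groth.Agent.Pi1.H385.GeomPt

/-- The pullback along `ϖ : U' ⟶ U` of `Vh : V ⟶ U` extends along `i : U' ⟶ X'`. -/
def Ext {U U' X' : Scheme.{u}} (ϖ : U' ⟶ U) (i : U' ⟶ X') {V : Scheme.{u}} (Vh : V ⟶ U) : Prop :=
  ∃ (Vb : Scheme.{u}) (Vbh : Vb ⟶ X') (j : pullback Vh ϖ ⟶ Vb), FEt.prop Vbh ∧
    IsPullback j (pullback.snd Vh ϖ) Vbh i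

/-- `Ext` from any model of the base change. -/
theorem Ext.of_isPullback {U U' X' : Scheme.{u}} {ϖ : U' ⟶ U} {i : U' ⟶ X'} {V V' Vb : Scheme.{u}}
    {Vh : V ⟶ U} {p : V' ⟶ V} {h : V' ⟶ U'} (sq : IsPullback p h Vh ϖ) {Vbh : Vb ⟶ X'}
    {j : V' ⟶ Vb} (hVb : FEt.prop Vbh) (sqb : IsPullback j h Vbh i) : Ext ϖ i Vh := by
  refine ⟨Vb, Vbh, sq.isoPullback.inv ≫ j, hVb, ?_⟩
  refine IsPullback.of_iso sqb sq.isoPullback (Iso.refl _) (Iso.refl _) (Iso.refl _) ?_ ?_ ?_ ?_ <;>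
    simp

/-- The four side faces of the cube of base changes. -/
theorem cube {U₁ U₂ U₁' U₂' V₁ V₂ V' V₂' : Scheme.{u}} {ϖ₁ : U₁' ⟶ U₁} {y : U₂ ⟶ U₁}
    {y' : U₂' ⟶ U₁'} {ϖ₂ : U₂' ⟶ U₂} (sqU : IsPullback y' ϖ₂ ϖ₁ y) {Vh : V₁ ⟶ U₁}
    {V₂h : V₂ ⟶ U₂} {v : V₂ ⟶ V₁} (sqV : IsPullback v V₂h Vh y)
    {p : V' ⟶ V₁} {h' : V' ⟶ U₁'} (sqV' : IsPullback p h' Vh ϖ₁)
    {p₂ : V₂' ⟶ V₂} {h₂' : V₂' ⟶ U₂'} (sqV₂' : IsPullback p₂ h₂' V₂h ϖ₂) :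
    ∃ v' : V₂' ⟶ V', v' ≫ p = p₂ ≫ v ∧ IsPullback v' h₂' h' y' := by
  let v' : V₂' ⟶ V' := sqV'.lift (p₂ ≫ v) (h₂' ≫ y') (by
    rw [Category.assoc, sqV.w, Category.assoc, sqU.w, sqV₂'.w_assoc])
  have hv'1 : v' ≫ p = p₂ ≫ v := sqV'.lift_fst _ _ _
  have hv'2 : v' ≫ h' = h₂' ≫ y' := sqV'.lift_snd _ _ _
  refine ⟨v', hv'1, ?_⟩
  have h1 : IsPullback (v' ≫ p) h₂' Vh (y' ≫ ϖ₁) := by
    rw [hv'1, sqU.w]
    exact sqV₂'.paste_horiz sqV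
  exact IsPullback.of_right h1 hv'2 sqV'

section Maps

variable {U₁ U₂ U₁' U₂' X₁ : Scheme.{u}} {ϖ₁ : U₁' ⟶ U₁} {y : U₂ ⟶ U₁} {y' : U₂' ⟶ U₁'}
  {ϖ₂ : U₂' ⟶ U₂} (sqU : IsPullback y' ϖ₂ ϖ₁ y) {i₁ : U₁' ⟶ X₁}
  (hi₁ : FF i₁) (hy : FF (y' ≫ i₁)) [IsIntegralHom ϖ₁] [Surjective ϖ₁]
  {V₁ V₂ W₁ : Scheme.{u}} {Vh : V₁ ⟶ U₁} {Wh : W₁ ⟶ U₁} (hW : FEt.prop Wh)
  {v : V₂ ⟶ V₁} {V₂h : V₂ ⟶ U₂} (sqV : IsPullback v V₂h Vh y) (hVe : Ext ϖ₁ i₁ Vh)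
  (hWe : Ext ϖ₁ i₁ Wh)

include hi₁ hy hW sqV hVe hWe sqU

/-- Uniqueness of extensions. -/
theorem unique_map (a a' : V₁ ⟶ W₁) (ha : a ≫ Wh = Vh) (ha' : a' ≫ Wh = Vh)
    (h : v ≫ a = v ≫ a') : a = a' := by
  have : Etale Wh := hW.2
  obtain ⟨Vb, Vbh, jV, hVb, sqVb⟩ := hVe
  obtain ⟨Wb, Wbh, jW, hWb, sqWb⟩ := hWe
  have sqV' := IsPullback.of_hasPullback Vh ϖ₁
  have sqW' := IsPullback.of_hasPullback Wh ϖ₁
  have sqV₂' := IsPullback.of_hasPullback V₂h ϖ₂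
  obtain ⟨v', hv'1, hsq⟩ := cube sqU sqV sqV' sqV₂'
  let b : ∀ c : V₁ ⟶ W₁, c ≫ Wh = Vh → (pullback Vh ϖ₁ ⟶ pullback Wh ϖ₁) := fun c hc =>
    pullback.lift (pullback.fst _ _ ≫ c) (pullback.snd _ _) (by
      rw [Category.assoc, hc, pullback.condition])
  have hb1 : ∀ c hc, b c hc ≫ pullback.fst _ _ = pullback.fst _ _ ≫ c := fun c hc =>
    pullback.lift_fst _ _ _
  have hb2 : ∀ c hc, b c hc ≫ pullback.snd _ _ = pullback.snd _ _ := fun c hc =>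
    pullback.lift_snd _ _ _
  have key : b a ha = b a' ha' := by
    refine (existsUnique_lift hi₁ hy hsq sqVb hVb sqWb hWb (t := 𝟙 _) (tb := 𝟙 _) (by simp)
      (v' ≫ b a ha) (by rw [Category.assoc, hb2 a ha, hsq.w, Category.comp_id])).unique
      ⟨by rw [hb2 a ha, Category.comp_id], rfl⟩ ⟨by rw [hb2 a' ha', Category.comp_id], ?_⟩
    apply pullback.hom_ext
    · rw [Category.assoc, Category.assoc, hb1 a ha, hb1 a' ha', reassoc_of% hv'1,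
        reassoc_of% hv'1, h]
    · rw [Category.assoc, Category.assoc, hb2 a ha, hb2 a' ha']
  refine desc_map_unique sqV' Wh a a' (by rw [ha, ha']) ?_
  rw [← hb1 a ha, ← hb1 a' ha', key]

variable {Γ : Type} [Group Γ] (A : Act ϖ₁ Γ) (t : Γ → (X₁ ⟶ X₁))
  (ht : ∀ γ, A.r γ ≫ i₁ = i₁ ≫ t γ)

include A ht

/-- Full faithfulness. -/
theorem existsUnique_map (b : V₂ ⟶ W₁) (hb : b ≫ Wh = V₂h ≫ y) :
    ∃! a : V₁ ⟶ W₁, a ≫ Wh = Vh ∧ v ≫ a = b := by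
  have : Etale Wh := hW.2
  have hun := unique_map sqU hi₁ hy hW sqV hVe hWe
  refine existsUnique_of_exists_of_unique ?_ (fun a a' h1 h2 =>
    hun a a' h1.1 h2.1 (h1.2.trans h2.2.symm))
  clear hun
  obtain ⟨Vb, Vbh, jV, hVb, sqVb⟩ := hVe
  obtain ⟨Wb, Wbh, jW, hWb, sqWb⟩ := hWe
  have sqV' := IsPullback.of_hasPullback Vh ϖ₁
  have sqW' := IsPullback.of_hasPullback Wh ϖ₁
  have sqV₂' := IsPullback.of_hasPullback V₂h ϖ₂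
  obtain ⟨v', hv'1, hsq⟩ := cube sqU sqV sqV' sqV₂'
  -- the map on `V₂'`
  let b' : pullback V₂h ϖ₂ ⟶ pullback Wh ϖ₁ := pullback.lift (pullback.fst _ _ ≫ b)
    (pullback.snd _ _ ≫ y') (by
      rw [Category.assoc, hb, pullback.condition_assoc, Category.assoc, sqU.w])
  have hb'1 : b' ≫ pullback.fst _ _ = pullback.fst _ _ ≫ b := pullback.lift_fst _ _ _
  have hb'2 : b' ≫ pullback.snd _ _ = pullback.snd _ _ ≫ y' := pullback.lift_snd _ _ _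
  obtain ⟨a', ⟨ha'1, ha'2⟩, -⟩ := existsUnique_lift hi₁ hy hsq sqVb hVb sqWb hWb (t := 𝟙 _)
    (tb := 𝟙 _) (by simp) b' (by rw [hb'2, Category.comp_id])
  rw [Category.comp_id] at ha'1
  -- the actions
  let A₂ := A.baseChange sqU
  let γV : Γ → (pullback Vh ϖ₁ ⟶ pullback Vh ϖ₁) := fun γ =>
    sqV'.lift (pullback.fst _ _) (pullback.snd _ _ ≫ A.r γ) (by
      rw [Category.assoc, A.r_w, sqV'.w])
  let γW : Γ → (pullback Wh ϖ₁ ⟶ pullback Wh ϖ₁) := fun γ =>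
    sqW'.lift (pullback.fst _ _) (pullback.snd _ _ ≫ A.r γ) (by
      rw [Category.assoc, A.r_w, sqW'.w])
  let γV₂ : Γ → (pullback V₂h ϖ₂ ⟶ pullback V₂h ϖ₂) := fun γ =>
    sqV₂'.lift (pullback.fst _ _) (pullback.snd _ _ ≫ A₂.r γ) (by
      rw [Category.assoc, A₂.r_w, sqV₂'.w])
  have hγV1 : ∀ γ, γV γ ≫ pullback.fst _ _ = pullback.fst _ _ := fun γ => sqV'.lift_fst _ _ _
  have hγV2 : ∀ γ, γV γ ≫ pullback.snd _ _ = pullback.snd _ _ ≫ A.r γ := fun γ =>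
    sqV'.lift_snd _ _ _
  have hγW1 : ∀ γ, γW γ ≫ pullback.fst _ _ = pullback.fst _ _ := fun γ => sqW'.lift_fst _ _ _
  have hγW2 : ∀ γ, γW γ ≫ pullback.snd _ _ = pullback.snd _ _ ≫ A.r γ := fun γ =>
    sqW'.lift_snd _ _ _
  have hγV₂1 : ∀ γ, γV₂ γ ≫ pullback.fst _ _ = pullback.fst _ _ := fun γ => sqV₂'.lift_fst _ _ _
  have hγV₂2 : ∀ γ, γV₂ γ ≫ pullback.snd _ _ = pullback.snd _ _ ≫ A₂.r γ := fun γ =>
    sqV₂'.lift_snd _ _ _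
  have hA₂ : ∀ γ, A₂.r γ ≫ y' = y' ≫ A.r γ := fun γ => A.baseChange_r_fst sqU γ
  have hv'γ : ∀ γ, v' ≫ γV γ = γV₂ γ ≫ v' := by
    intro γ
    apply sqV'.hom_ext
    · rw [Category.assoc, hγV1, hv'1, Category.assoc, hv'1, reassoc_of% hγV₂1]
    · rw [Category.assoc, hγV2, Category.assoc, hsq.w, reassoc_of% hγV₂2, hA₂,
        reassoc_of% hsq.w]
  have hinv : ∀ γ, γV γ ≫ a' = a' ≫ γW γ := by
    intro γ
    refine (existsUnique_lift hi₁ hy hsq sqVb hVb sqWb hWb (ht γ)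
      (v' ≫ γV γ ≫ a') (by
        rw [Category.assoc, Category.assoc, ha'1, hγV2, reassoc_of% hsq.w])).unique
      ⟨by rw [Category.assoc, ha'1, hγV2], rfl⟩
      ⟨by rw [Category.assoc, hγW2, reassoc_of% ha'1], ?_⟩
    rw [reassoc_of% ha'2, reassoc_of% hv'γ, ha'2]
    apply sqW'.hom_ext
    · rw [Category.assoc, hγW1, hb'1, Category.assoc, hb'1, reassoc_of% hγV₂1]
    · rw [Category.assoc, hγW2, reassoc_of% hb'2, Category.assoc, hb'2,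
        reassoc_of% hγV₂2, hA₂]
  obtain ⟨a, ha1, ha2⟩ := exists_desc_map A sqV' Wh Vh (a' ≫ pullback.fst _ _) (by
    rw [Category.assoc, sqW'.w, reassoc_of% ha'1, sqV'.w]) (fun γ => by
      change γV γ ≫ a' ≫ pullback.fst _ _ = a' ≫ pullback.fst _ _
      rw [reassoc_of% hinv, hγW1])
  refine ⟨a, ha1, ?_⟩
  have hϖ₂ : Surjective ϖ₂ := MorphismProperty.of_isPullback sqU inferInstance
  refine desc_map_unique sqV₂' Wh (v ≫ a) b (by rw [Category.assoc, ha1, sqV.w, hb]) ?_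
  rw [← reassoc_of% hv'1, ha2, reassoc_of% ha'2, hb'1]

end Maps

end Groth.Agent.Pi1.H385.AbsM
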