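import Groth.Agent.S0242
import Groth.Agent.S0265
import Groth.Agent.Sga3C.GeomRedPerf
import Groth.Agent.Etcore.SmoothRed
import Groth.Agent.Sga3C.LocConn
import Groth.Agent.Pi1A.Clopen
import Groth.Agent.Pi1A.ConnFibres
import Groth.Agent.Pi1.H385.GeomConnAC

/-!
# Connected finite etale covers of a product `X ×_k Y` with `X` proper: the case of reduced `X`
-/

set_option autoImplicit false
universe u

open CategoryTheory CategoryTheory.Limits AlgebraicGeometry

namespace Groth.Agent.Pi1.H385.ProdCover

open Groth.Agent.Pi1A Groth.Agent.Pi1A.FEtAffine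

/-- The connected component through the image of a connected scheme. -/
theorem exists_opens {Z : Scheme.{u}} [IsLocallyNoetherian Z] {T : Scheme.{u}} [ConnectedSpace T]
    (τ : T ⟶ Z) :
    ∃ (C : Z.Opens) (_ : IsClosed (C : Set Z)) (τ' : T ⟶ C), ConnectedSpace C ∧ τ' ≫ C.ι = τ := by
  have := Groth.Agent.Sga3C.LocConn.locallyConnectedSpace_of_isLocallyNoetherian Z
  obtain ⟨t⟩ := (inferInstance : Nonempty T)
  let C : Z.Opens := ⟨connectedComponent (τ t), isOpen_connectedComponent⟩
  have hC : IsClosed (C : Set Z) := isClosed_connectedComponent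
  have hr : Set.range τ ⊆ Set.range C.ι := by
    rw [Scheme.Opens.range_ι]
    exact (isPreconnected_range τ.continuous).subset_connectedComponent ⟨t, rfl⟩
  have hconn : ConnectedSpace C :=
    isConnected_iff_connectedSpace.mp (isConnected_connectedComponent (x := τ t))
  exact ⟨C, hC, IsOpenImmersion.lift C.ι τ hr, hconn, IsOpenImmersion.lift_fac C.ι τ hr⟩

/-- The connected component of a finite etale cover through the image of a connected scheme. -/
theorem exists_component {P : Scheme.{u}} [IsLocallyNoetherian P] (W : FEt.Cat P)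
    {T : Scheme.{u}} [ConnectedSpace T] (τ : T ⟶ W.left) :
    ∃ (V : FEt.Cat P) (i : V ⟶ W) (τ' : T ⟶ V.left), ConnectedSpace V.left ∧ τ' ≫ i.left = τ := by
  let h : W.left ⟶ P := W.hom
  have hf : IsFinite h := W.prop.1
  have : IsLocallyNoetherian W.left := LocallyOfFiniteType.isLocallyNoetherian h
  obtain ⟨C, hC, τ', hc, hτ'⟩ := exists_opens τ
  exact ⟨MorphismProperty.Over.mk ⊤ (C.ι ≫ W.hom)
    (FEt.prop.comp_mem _ _ (Clopen.prop_ι_of_isClosed C hC) W.prop),
    MorphismProperty.Over.homMk C.ι rfl trivial, τ', hc, hτ'⟩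

/-- A finite etale cover with nonempty total space over a connected base is surjective. -/
theorem surjective_of_nonempty {P : Scheme.{u}} [ConnectedSpace P] (W : FEt.Cat P)
    [Nonempty W.left] : Surjective W.hom := by
  let h : W.left ⟶ P := W.hom
  have h1 : IsFinite h := W.prop.1
  have h2 : Etale h := W.prop.2
  have h3 : Set.range h = Set.univ :=
    IsClopen.eq_univ ⟨h.isClosedMap.isClosed_range, h.isOpenMap.isOpen_range⟩
      (Set.range_nonempty _)
  exact ⟨Set.range_eq_univ.mp h3⟩

section

variable (k : Type u) [Field k] [IsAlgClosed k] {X Y : Scheme.{u}}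
    (pX : X ⟶ Spec (CommRingCat.of k)) (pY : Y ⟶ Spec (CommRingCat.of k))

/-- The case of reduced `X`. -/
theorem of_isReduced [IsProper pX] [IsReduced X] [ConnectedSpace X]
    [IsLocallyNoetherian Y] [ConnectedSpace Y]
    (W : FEt.Cat (pullback pX pY)) [ConnectedSpace W.left] :
    ∃ (X' : FEt.Cat X) (Y' : FEt.Cat Y) (φ : pullback (X'.hom ≫ pX) (Y'.hom ≫ pY) ⟶ W.left),
      φ ≫ W.hom = pullback.map (X'.hom ≫ pX) (Y'.hom ≫ pY) pX pY X'.hom Y'.hom (𝟙 _)
        (Category.comp_id _) (Category.comp_id _) ∧
      Nonempty ↥(pullback (X'.hom ≫ pX) (Y'.hom ≫ pY)) := by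
  have hgc : GeometricallyConnected pX := GeomConnAC.geometricallyConnected k pX
  have hP : ConnectedSpace ↥(pullback pX pY) := inferInstance
  have hX : IsLocallyNoetherian X := LocallyOfFiniteType.isLocallyNoetherian pX
  have hWs : Surjective W.hom := surjective_of_nonempty W
  -- a geometric point of `Y`
  obtain ⟨y⟩ := (inferInstance : Nonempty Y)
  obtain ⟨Ω, _, _, s, -, -⟩ := ConnFibres.exists_geometric_point Y y
  obtain ⟨θ, hθ⟩ := Spec.map_surjective (s ≫ pY)
  let _ : Algebra k Ω := θ.hom.toAlgebra
  let b : Spec (CommRingCat.of Ω) ⟶ Spec (CommRingCat.of k) :=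
    Spec.map (CommRingCat.ofHom (algebraMap k Ω))
  have hb : s ≫ pY = b := hθ.symm
  -- restrict `W` to the geometric fibre and descend to `X`
  let g : pullback pX b ⟶ pullback pX pY :=
    pullback.lift (pullback.fst _ _) (pullback.snd _ _ ≫ s)
      (by rw [Category.assoc, hb, pullback.condition])
  have := Groth.Agent.S0242.result k Ω pX
  obtain ⟨Z, ⟨e⟩⟩ := Functor.EssSurj.mem_essImage
    (F := FEt.restrict (pullback.fst pX b)) ((FEt.restrict g).obj W)
  have hZne : Nonempty Z.left := by
    have h1 : Nonempty ↥(pullback pX b) := inferInstance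
    obtain ⟨a⟩ := h1
    have h2 : Surjective ((FEt.restrict g).obj W).hom :=
      inferInstanceAs (Surjective (pullback.snd W.hom g))
    obtain ⟨c, -⟩ := h2.surj a
    exact ⟨proj (pullback.fst pX b) Z (e.inv.left c)⟩
  obtain ⟨z⟩ := hZne
  -- a connected component `X'` of `Z`
  obtain ⟨X', i, -, hX'c, -⟩ := exists_component Z (Z.left.fromSpecResidueField z)
  have hX'f : IsFinite X'.hom := X'.prop.1
  have hX'e : Etale X'.hom := X'.prop.2
  let h' : X'.left ⟶ X := X'.hom
  have hh'e : Etale h' := hX'e
  have hX'r : IsReduced X'.left := Groth.Agent.Etcore.SmoothRed.isReduced_of_smooth h'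
  let p' : X'.left ⟶ Spec (CommRingCat.of k) := X'.hom ≫ pX
  have hp'P : IsProper p' := inferInstanceAs (IsProper (X'.hom ≫ pX))
  have hp'c : GeometricallyConnected p' := GeomConnAC.geometricallyConnected k p'
  have hp'r : GeometricallyReduced p' :=
    Groth.Agent.Sga3C.GeomRedPerf.geometricallyReduced_of_isReduced p'
  -- the cover of `X' × Y`
  let q : pullback p' pY ⟶ pullback pX pY :=
    pullback.map p' pY pX pY X'.hom (𝟙 _) (𝟙 _) (by simp [p']) (by simp)
  let f : pullback p' pY ⟶ Y := pullback.snd p' pY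
  let W' : FEt.Cat (pullback p' pY) := (FEt.restrict q).obj W
  have hfP : IsProper f := inferInstanceAs (IsProper (pullback.snd p' pY))
  have hfF : Flat f := inferInstanceAs (Flat (pullback.snd p' pY))
  have hfp : LocallyOfFinitePresentation f :=
    LocallyOfFinitePresentation.iff_locallyOfFiniteType.mpr inferInstance
  have hfc : GeometricallyConnected f :=
    inferInstanceAs (GeometricallyConnected (pullback.snd p' pY))
  have hfr : GeometricallyReduced f :=
    inferInstanceAs (GeometricallyReduced (pullback.snd p' pY))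
  have hfib : ∀ (Ω' : Type u) [Field Ω'] [IsAlgClosed Ω'] (t : Spec (CommRingCat.of Ω') ⟶ Y),
      ConnectedSpace ↥(pullback f t) ∧ IsReduced (pullback f t) := fun Ω' _ _ t =>
    ⟨hfc.geometrically_connectedSpace t _ _ (IsPullback.of_hasPullback f t),
      hfr.geometrically_isReduced t _ _ (IsPullback.of_hasPullback f t)⟩
  -- the section over the geometric fibre
  let x0 : pullback f s ⟶ X'.left := pullback.fst f s ≫ pullback.fst p' pY
  let c0 : pullback f s ⟶ pullback pX b := pullback.lift (x0 ≫ X'.hom) (pullback.snd f s) (by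
    have h1 : x0 ≫ p' = pullback.snd f s ≫ s ≫ pY := by
      rw [← pullback.condition_assoc]
      simp only [x0, f, Category.assoc, pullback.condition]
    rw [← hb, ← h1, Category.assoc])
  have hc0 : c0 ≫ g = pullback.fst f s ≫ q := by
    apply pullback.hom_ext
    · simp only [c0, g, q, x0, Category.assoc, pullback.map, pullback.lift_fst]
    · simp only [c0, g, q, Category.assoc, pullback.map, pullback.lift_snd,
        pullback.lift_snd_assoc, Category.comp_id]
      exact pullback.condition.symm
  let c : pullback f s ⟶ ((FEt.restrict (pullback.fst pX b)).obj Z).left :=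
    (isPullback (pullback.fst pX b) Z).lift (x0 ≫ i.left) c0 (by
      rw [Category.assoc, hom_w, pullback.lift_fst])
  have hc : c ≫ ((FEt.restrict (pullback.fst pX b)).obj Z).hom = c0 :=
    (isPullback (pullback.fst pX b) Z).lift_snd _ _ _
  let a : pullback f s ⟶ W.left := c ≫ e.hom.left ≫ proj g W
  have ha : a ≫ W.hom = pullback.fst f s ≫ q := by
    rw [← hc0, ← hc]
    simp only [a, Category.assoc, (isPullback g W).w, hom_w_assoc]
  let τ : pullback f s ⟶ W'.left := (isPullback q W).lift a (pullback.fst f s) ha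
  have hτ : τ ≫ W'.hom = pullback.fst f s := (isPullback q W).lift_snd _ _ _
  have hcs : ConnectedSpace ↥(pullback f s) := (hfib Ω s).1
  obtain ⟨V, j, τ', hV, hτ'⟩ := exists_component W' τ
  obtain ⟨Y', ⟨e'⟩⟩ := Groth.Agent.S0265.result f hfib V Ω s τ' (by
    rw [← hom_w j, ← Category.assoc, hτ', hτ])
  let v : pullback (X'.hom ≫ pX) (Y'.hom ≫ pY) ⟶ pullback p' pY :=
    pullback.lift (pullback.fst _ _) (pullback.snd _ _ ≫ Y'.hom) (by
      rw [Category.assoc, ← pullback.condition])
  let w : pullback (X'.hom ≫ pX) (Y'.hom ≫ pY) ⟶ ((FEt.restrict f).obj Y').left :=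
    (isPullback f Y').lift (pullback.snd _ _) v (pullback.lift_snd _ _ _).symm
  have hw : w ≫ ((FEt.restrict f).obj Y').hom = v := (isPullback f Y').lift_snd _ _ _
  refine ⟨X', Y', w ≫ e'.hom.left ≫ j.left ≫ proj q W, ?_, ?_⟩
  · have h1 : (w ≫ e'.hom.left ≫ j.left ≫ proj q W) ≫ W.hom = v ≫ q := by
      rw [← hw]
      simp only [Category.assoc, (isPullback q W).w]
      rw [← hom_w e'.hom, ← hom_w j]
      simp only [Category.assoc]
      rfl
    rw [h1]
    apply pullback.hom_ext
    · simp only [v, q, Category.assoc, pullback.map, pullback.lift_fst, pullback.lift_fst_assoc]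
    · simp only [v, q, Category.assoc, pullback.map, pullback.lift_snd,
        Category.comp_id]
  · obtain ⟨x⟩ := (inferInstance : Nonempty V.left)
    let r : ((FEt.restrict f).obj Y').left ⟶ pullback (X'.hom ≫ pX) (Y'.hom ≫ pY) :=
      pullback.lift (((FEt.restrict f).obj Y').hom ≫ pullback.fst p' pY) (proj f Y') (by
        have h2 := (isPullback f Y').w
        rw [← Category.assoc (proj f Y'), h2, Category.assoc, Category.assoc]
        exact congrArg (((FEt.restrict f).obj Y').hom ≫ ·) (pullback.condition (f := p') (g := pY)))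
    exact ⟨r (e'.inv.left x)⟩

end

end Groth.Agent.Pi1.H385.ProdCover
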