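import Groth.Agent.S0238
import Groth.Agent.Ega1.ReducedSub
import Groth.Agent.Pi1B.FEtPreGalois
import Groth.Agent.Pi1.H385.ProdCover

/-!
# Connected finite etale covers of a product `X ×_k Y` with `X` proper
-/

set_option autoImplicit false
universe u

open CategoryTheory CategoryTheory.Limits AlgebraicGeometry

namespace Groth.Agent.Pi1.H385.ProdCover2

open Groth.Agent.Pi1A Groth.Agent.Pi1A.FEtAffine

theorem exists_reduced (X : Scheme.{u}) : ∃ (X' : Scheme.{u}) (i : X' ⟶ X), IsReduced X' ∧
    IsClosedImmersion i ∧ Surjective i := by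
  refine ⟨X.nilradical.subscheme, X.nilradical.subschemeι,
    Ega1.ReducedSub.isReduced_subscheme_radical _, inferInstance, ?_⟩
  rw [surjective_iff, ← Set.range_eq_univ, Scheme.IdealSheafData.range_subschemeι,
    Scheme.support_nilradical]
  rfl

/-- The source of a surjective closed immersion to a connected scheme is connected. -/
theorem connectedSpace_of_isClosedImmersion {A B : Scheme.{u}} (i : A ⟶ B) [IsClosedImmersion i]
    [Surjective i] [ConnectedSpace B] : ConnectedSpace A :=
  (i.isClosedEmbedding.isEmbedding.toHomeomorphOfSurjective i.surjective).symm.surjective.connectedSpace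
    (i.isClosedEmbedding.isEmbedding.toHomeomorphOfSurjective i.surjective).symm.continuous

/-- A morphism of finite etale covers from a nonempty one to a connected one is surjective. -/
theorem surjective_of_hom {P : Scheme.{u}} {A B : FEt.Cat P} (a : A ⟶ B) [Nonempty A.left]
    [ConnectedSpace B.left] : Surjective a.left := by
  let h : A.left ⟶ B.left := a.left
  have h0 : FEt.prop h := Groth.Agent.Pi1B.FEtPreGalois.prop_left a
  have h1 : IsFinite h := h0.1
  have h2 : Etale h := h0.2
  have h3 : Set.range h = Set.univ :=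
    IsClopen.eq_univ ⟨h.isClosedMap.isClosed_range, h.isOpenMap.isOpen_range⟩
      (Set.range_nonempty _)
  exact ⟨Set.range_eq_univ.mp h3⟩

/-- The product of two covers as a cover of the product. -/
noncomputable def prod {X Y S : Scheme.{u}} (pX : X ⟶ S) (pY : Y ⟶ S) (X' : FEt.Cat X)
    (Y' : FEt.Cat Y) : FEt.Cat (pullback pX pY) :=
  MorphismProperty.Over.mk ⊤ (pullback.map (X'.hom ≫ pX) (Y'.hom ≫ pY) pX pY X'.hom Y'.hom (𝟙 _)
        (Category.comp_id _) (Category.comp_id _))
    (MorphismProperty.pullbackMap (P := FEt.prop) X'.prop Y'.prop rfl rfl)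

theorem main (k : Type u) [Field k] [IsAlgClosed k] {X Y : Scheme.{u}}
    (pX : X ⟶ Spec (CommRingCat.of k)) (pY : Y ⟶ Spec (CommRingCat.of k)) [IsProper pX] [ConnectedSpace X]
    [IsLocallyNoetherian Y] [ConnectedSpace Y]
    (W : FEt.Cat (pullback pX pY)) [ConnectedSpace W.left] :
    ∃ (X' : FEt.Cat X) (Y' : FEt.Cat Y) (φ : pullback (X'.hom ≫ pX) (Y'.hom ≫ pY) ⟶ W.left),
      φ ≫ W.hom = pullback.map (X'.hom ≫ pX) (Y'.hom ≫ pY) pX pY X'.hom Y'.hom (𝟙 _)
        (Category.comp_id _) (Category.comp_id _) ∧ Surjective φ := by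
  obtain ⟨X₀, i, _, _, _⟩ := exists_reduced X
  have hX₀ : ConnectedSpace X₀ := connectedSpace_of_isClosedImmersion i
  let p₀ : X₀ ⟶ Spec (CommRingCat.of k) := i ≫ pX
  have hp₀ : IsProper p₀ := inferInstanceAs (IsProper (i ≫ pX))
  let j : pullback p₀ pY ⟶ pullback pX pY :=
    pullback.map p₀ pY pX pY i (𝟙 _) (𝟙 _) (by simp [p₀]) (by simp)
  have hj1 : j ≫ pullback.fst pX pY = pullback.fst p₀ pY ≫ i := by
    dsimp only [j]
    rw [pullback.map, pullback.lift_fst]
  have hj2 : j ≫ pullback.snd pX pY = pullback.snd p₀ pY := by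
    dsimp only [j]
    rw [pullback.map, pullback.lift_snd, Category.comp_id]
  have hj : IsPullback j (pullback.fst p₀ pY) (pullback.fst pX pY) i := by
    refine IsPullback.of_right (h₁₂ := pullback.snd pX pY) (v₁₃ := pY) (h₂₂ := pX) ?_ hj1 ?_
    · rw [hj2]
      exact (IsPullback.of_hasPullback p₀ pY).flip
    · exact (IsPullback.of_hasPullback pX pY).flip
  have hjc : IsClosedImmersion j := MorphismProperty.of_isPullback hj.flip inferInstance
  have hjs : Surjective j := MorphismProperty.of_isPullback hj.flip inferInstance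
  have := Groth.Agent.S0238.result i
  have := Groth.Agent.S0238.result j
  let W₀ : FEt.Cat (pullback p₀ pY) := (FEt.restrict j).obj W
  have hpc : IsClosedImmersion (proj j W) :=
    MorphismProperty.of_isPullback (isPullback j W).flip hjc
  have hps : Surjective (proj j W) :=
    MorphismProperty.of_isPullback (isPullback j W).flip hjs
  have hW₀ : ConnectedSpace W₀.left := connectedSpace_of_isClosedImmersion (proj j W)
  obtain ⟨X₀', Y', φ₀, hφ₀, hne⟩ := ProdCover.of_isReduced k p₀ pY W₀
  obtain ⟨X', ⟨e⟩⟩ := Functor.EssSurj.mem_essImage (F := FEt.restrict i) X₀'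
  let P := prod pX pY X' Y'
  let P1 : P.left ⟶ X'.left := pullback.fst (X'.hom ≫ pX) (Y'.hom ≫ pY)
  let P2 : P.left ⟶ Y'.left := pullback.snd (X'.hom ≫ pX) (Y'.hom ≫ pY)
  have hP1 : P.hom ≫ pullback.fst pX pY = P1 ≫ X'.hom := pullback.lift_fst _ _ _
  have hP2 : P.hom ≫ pullback.snd pX pY = P2 ≫ Y'.hom := pullback.lift_snd _ _ _
  let m1 : ((FEt.restrict j).obj P).left ⟶ ((FEt.restrict i).obj X').left :=
    (isPullback i X').lift (proj j P ≫ P1)
      (((FEt.restrict j).obj P).hom ≫ pullback.fst p₀ pY) (by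
        rw [Category.assoc, ← hP1, Category.assoc, ← hj1, reassoc_of% (isPullback j P).w])
  have hm1 : m1 ≫ ((FEt.restrict i).obj X').hom =
      ((FEt.restrict j).obj P).hom ≫ pullback.fst p₀ pY := (isPullback i X').lift_snd _ _ _
  have hP2' : (proj j P ≫ P2) ≫ Y'.hom = ((FEt.restrict j).obj P).hom ≫ pullback.snd p₀ pY := by
    rw [Category.assoc, ← hP2, ← hj2, reassoc_of% (isPullback j P).w]
  have hm1' : (m1 ≫ e.hom.left) ≫ X₀'.hom = ((FEt.restrict j).obj P).hom ≫ pullback.fst p₀ pY := by
    rw [Category.assoc, hom_w, hm1]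
  let m : ((FEt.restrict j).obj P).left ⟶ pullback (X₀'.hom ≫ p₀) (Y'.hom ≫ pY) :=
    pullback.lift (m1 ≫ e.hom.left) (proj j P ≫ P2) (by
      have e1 := congrArg (· ≫ p₀) hm1'
      have e2 := congrArg (· ≫ pY) hP2'
      have e3 := congrArg (((FEt.restrict j).obj P).hom ≫ ·) (pullback.condition (f := p₀) (g := pY))
      simp only [Category.assoc] at e1 e2 e3 ⊢
      rw [e1, e2, e3])
  have hm : (m ≫ φ₀) ≫ W₀.hom = ((FEt.restrict j).obj P).hom := by
    rw [Category.assoc, hφ₀]
    apply pullback.hom_ext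
    · rw [← hm1']
      simp only [m, Category.assoc, pullback.map, pullback.lift_fst, pullback.lift_fst_assoc]
    · rw [← hP2']
      simp only [m, Category.assoc, pullback.map, pullback.lift_snd, pullback.lift_snd_assoc]
  let ψ₀ : (FEt.restrict j).obj P ⟶ (FEt.restrict j).obj W :=
    MorphismProperty.Over.homMk (m ≫ φ₀) hm trivial
  obtain ⟨ψ, -⟩ := (FEt.restrict j).map_surjective ψ₀
  have hPne : Nonempty P.left := by
    obtain ⟨x⟩ := hne
    let r : pullback (X₀'.hom ≫ p₀) (Y'.hom ≫ pY) ⟶ pullback (X'.hom ≫ pX) (Y'.hom ≫ pY) :=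
      pullback.lift (pullback.fst _ _ ≫ e.inv.left ≫ proj i X') (pullback.snd _ _) (by
        rw [← pullback.condition]
        simp only [Category.assoc, p₀]
        rw [reassoc_of% (isPullback i X').w, hom_w_assoc])
    exact ⟨r x⟩
  exact ⟨X', Y', ψ.left, hom_w ψ, surjective_of_hom ψ⟩

end Groth.Agent.Pi1.H385.ProdCover2
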